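import Groth.Agent.ComodLib.Coalg
import Groth.Prelude.Def_W4c3ghconstell
import Groth.Prelude.Def_GLin
import Mathlib.Analysis.Normed.Group.InfiniteSum

/-!
# Weights of equivariant submodules of constellations
-/

set_option autoImplicit false
universe u v w x

open TensorProduct Groth.Agent.ComodLib W4c3ghconstell

namespace Groth.Agent.GHConst

section Comod

variable {k : Type u} [Field k] {A : Type v} [AddCommGroup A] [Module k A] [Coalgebra k A]
variable {M : Type x} [AddCommGroup M] [Module k M] [HopfRep.Comod k A M]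

/-- Isotypic components of subcoalgebras are subcomodules. -/
theorem isSubcomod_isoComp {D : Submodule k A} (hD : W4c3ghconstell.IsSubcoalg k A D) :
    HopfRep.IsSubcomod (k := k) (A := A) (isoComp M D) := by
  rw [isSubcomod_iff_actF]
  intro φ m hm
  obtain ⟨y, hy⟩ := hm
  show HopfRep.Comod.coact (k := k) (A := A) (actF φ m) ∈ LinearMap.range (LinearMap.lTensor M D.subtype)
  have hco : (HopfRep.Comod.coact (k := k) (A := A)).rTensor A (HopfRep.Comod.coact (k := k) (A := A) m) =
      (TensorProduct.assoc k M A A).symm ((Coalgebra.comul (R := k)).lTensor M (HopfRep.Comod.coact (k := k) (A := A) m)) := by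
    rw [LinearEquiv.eq_symm_apply]
    exact LinearMap.congr_fun (HopfRep.Comod.coassoc (k := k) (A := A) (V := M)) m
  rw [actF_apply, ← slice_rTensor, hco, ← hy]
  clear hy hco
  induction y using TensorProduct.induction_on with
  | zero => simp
  | add a b ha hb => simp only [map_add]; exact add_mem ha hb
  | tmul n d =>
    simp only [LinearMap.lTensor_tmul]
    obtain ⟨z, hz⟩ := hD d d.2
    rw [Submodule.subtype_apply, ← hz]
    clear hz
    induction z using TensorProduct.induction_on with
    | zero => simp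
    | add a b ha hb => simp only [map_add, TensorProduct.tmul_add]; exact add_mem ha hb
    | tmul d₁ d₂ =>
      simp only [TensorProduct.map_tmul, TensorProduct.assoc_symm_tmul, slice_tmul]
      exact Submodule.smul_mem _ _ ⟨n ⊗ₜ d₁, by simp⟩

/-- A nonzero subcomodule meets some isotypic component. -/
theorem exists_meet_isoComp {N : Submodule k M} (hN : HopfRep.IsSubcomod (k := k) (A := A) N) (h0 : N ≠ ⊥) :
    ∃ D : SimpSub k A, N ⊓ isoComp M D.1 ≠ ⊥ := by
  obtain ⟨S, hSN, -, hS, hS0, hmin⟩ := exists_simple_le hN h0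
  letI : HopfRep.Comod k A S := ComodSub.Comod.restr ‹HopfRep.Comod k A M› S hS
  haveI : Nontrivial S := Submodule.nontrivial_iff_ne_bot.mpr hS0
  have hsimple : HopfRep.IsSimpleComod k A S := isSimpleComod_restr hS hS0 hmin
  refine ⟨⟨coeffSpace k A S, coeffSpace_ne_bot, isSubcoalg_coeffSpace,
    fun B hle hB => isSimpleSubcoalg_coeffSpace hsimple hle hB⟩, fun hbot => hS0 ?_⟩
  rw [← le_bot_iff, ← hbot]
  refine fun s hs => ⟨hSN hs, ?_⟩
  obtain ⟨y, hy⟩ := (isLeast_coeffSpace (k := k) (C := A) (V := S)).1 ⟨s, hs⟩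
  have hi := LinearMap.congr_fun
    (show Hoch.IsComodHom A S.subtype from ComodSub.isComodHom_subtype _ S hS) ⟨s, hs⟩
  simp only [LinearMap.comp_apply, Submodule.subtype_apply] at hi
  refine ⟨S.subtype.rTensor (coeffSpace k A S) y, ?_⟩
  rw [hi, ← hy, ← LinearMap.comp_apply, ← LinearMap.comp_apply]
  congr 1
  exact TensorProduct.ext' fun a b => by simp

end Comod

section HopfMod

variable {k : Type u} [Field k] {A : Type v} [CommRing A] [HopfAlgebra k A]
variable {R : Type w} [CommRing R] [Algebra k R] [HopfRep.Comod k A R]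
variable {M : Type x} [AddCommGroup M] [Module k M] [Module R M] [IsScalarTower k R M] [HopfRep.Comod k A M]
  [TameAct.IsHopfMod k A R M]

set_option maxHeartbeats 800000 in
/-- The submodule spanned by subcomodules is a subcomodule. -/
theorem isSubcomod_span {ι : Sort*} (U : ι → Submodule k M) (hU : ∀ i, HopfRep.IsSubcomod (k := k) (A := A) (U i)) :
    HopfRep.IsSubcomod (k := k) (A := A) ((Submodule.span R (⋃ i, (U i : Set M))).restrictScalars k) := by
  intro m hm
  set P := Submodule.span R (⋃ i, (U i : Set M)) with hP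
  show HopfRep.Comod.coact (k := k) (A := A) m ∈ LinearMap.range ((P.restrictScalars k).subtype.rTensor A)
  replace hm : m ∈ P := hm
  rw [hP] at hm
  induction hm using Submodule.span_induction with
  | zero => rw [map_zero]; exact zero_mem _
  | add x y _ _ hx hy => rw [map_add]; exact add_mem hx hy
  | mem x hx =>
    obtain ⟨i, hi⟩ := Set.mem_iUnion.1 hx
    obtain ⟨y, hy⟩ := hU i x hi
    have hle : U i ≤ P.restrictScalars k := fun z hz => Submodule.subset_span (Set.mem_iUnion.2 ⟨i, hz⟩)
    refine ⟨(Submodule.inclusion hle).rTensor A y, ?_⟩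
    rw [← hy, ← LinearMap.comp_apply, ← LinearMap.rTensor_comp]
    rfl
  | smul r x _ hx =>
    rw [TameAct.IsHopfMod.coact_smul (k := k) (A := A)]
    obtain ⟨z, hz⟩ := hx
    rw [← hz]
    clear hz
    induction HopfRep.Comod.coact (k := k) (A := A) r using TensorProduct.induction_on with
    | zero => rw [map_zero, LinearMap.zero_apply]; exact zero_mem _
    | add u w hu hw => rw [map_add, LinearMap.add_apply]; exact add_mem hu hw
    | tmul r' a =>
      induction z using TensorProduct.induction_on with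
      | zero => rw [map_zero, map_zero]; exact zero_mem _
      | add u w hu hw => rw [map_add, map_add]; exact add_mem hu hw
      | tmul x' a' =>
        rw [LinearMap.rTensor_tmul, TameAct.hmSMul_tmul]
        exact ⟨(⟨r' • (x' : M), P.smul_mem r' ((Submodule.restrictScalars_mem k P (x' : M)).mp x'.2)⟩ :
          P.restrictScalars k) ⊗ₜ[k] (a * a'), by simp⟩

variable {S : Set (SimpSub k A)} {N : Submodule R M}

theorem isSubcomod_genIn (hN : HopfRep.IsSubcomod (k := k) (A := A) (N.restrictScalars k)) :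
    HopfRep.IsSubcomod (k := k) (A := A) ((genIn k A R M S N).restrictScalars k) := by
  have h : genIn k A R M S N = Submodule.span R
      (⋃ D : S, ((N.restrictScalars k ⊓ isoComp M D.1.1 : Submodule k M) : Set M)) := by
    rw [genIn, Set.iUnion_coe_set (s := S)
      (f := fun D => ((N.restrictScalars k ⊓ isoComp M D.1.1 : Submodule k M) : Set M))]
  rw [h]
  exact isSubcomod_span _ fun D => isSubcomod_inf hN (isSubcomod_isoComp D.1.2.2.1)

omit [HopfRep.Comod k A R] [TameAct.IsHopfMod k A R M] in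
theorem genIn_le : genIn k A R M S N ≤ N := by
  rw [genIn, Submodule.span_le]
  exact Set.iUnion₂_subset fun D _ x hx => hx.1

omit [HopfRep.Comod k A R] [TameAct.IsHopfMod k A R M] in
theorem inf_genIn {D : SimpSub k A} (hD : D ∈ S) :
    (genIn k A R M S N).restrictScalars k ⊓ isoComp M D.1 = N.restrictScalars k ⊓ isoComp M D.1 :=
  le_antisymm (inf_le_inf_right _ fun x hx => (genIn_le (N := N) hx : x ∈ N))
    (le_inf (fun x hx => Submodule.subset_span (Set.mem_biUnion hD hx)) inf_le_right)

omit [HopfRep.Comod k A R] [TameAct.IsHopfMod k A R M] in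
theorem genIn_genIn : genIn k A R M S (genIn k A R M S N) = genIn k A R M S N := by
  refine le_antisymm genIn_le ?_
  conv_lhs => rw [genIn]
  rw [Submodule.span_le]
  refine Set.iUnion₂_subset fun D hD x hx => ?_
  rw [SetLike.mem_coe, ← inf_genIn hD] at hx
  exact Submodule.subset_span (Set.mem_biUnion hD hx)

variable {h : SimpSub k A → ℕ} {θ : SimpSub k A → ℚ}

omit [HopfRep.Comod k A R] [TameAct.IsHopfMod k A R M] in
theorem hilbAt_top (hM : IsConstellation k A R M h) (D : SimpSub k A) : hilbAt M ⊤ D = h D := by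
  rw [hilbAt, top_inf_eq]; exact (hM.2.2 D).2

omit [HopfRep.Comod k A R] [TameAct.IsHopfMod k A R M] in
theorem hilbAt_le (hM : IsConstellation k A R M h) (P : Submodule k M) (D : SimpSub k A) : hilbAt M P D ≤ h D := by
  haveI := (hM.2.2 D).1
  exact (Submodule.finrank_mono inf_le_right).trans (hM.2.2 D).2.le

omit [HopfRep.Comod k A R] [TameAct.IsHopfMod k A R M] in
theorem hilbAt_mono (hM : IsConstellation k A R M h) {P Q : Submodule k M} (hPQ : P ≤ Q) (D : SimpSub k A) :
    hilbAt M P D ≤ hilbAt M Q D := by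
  haveI := (hM.2.2 D).1
  haveI : Module.Finite k ↥(Q ⊓ isoComp M D.1) := Submodule.finiteDimensional_of_le inf_le_right
  exact Submodule.finrank_mono (inf_le_inf_right _ hPQ)

omit [HopfRep.Comod k A R] [TameAct.IsHopfMod k A R M] in
theorem hilbAt_eq_zero_iff (hM : IsConstellation k A R M h) (P : Submodule k M) (D : SimpSub k A) :
    hilbAt M P D = 0 ↔ P ⊓ isoComp M D.1 = ⊥ := by
  haveI := (hM.2.2 D).1
  haveI : Module.Finite k ↥(P ⊓ isoComp M D.1) := Submodule.finiteDimensional_of_le inf_le_right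
  exact Submodule.finrank_eq_zero

omit [HopfRep.Comod k A R] [TameAct.IsHopfMod k A R M] in
theorem summable_theta (hM : IsConstellation k A R M h)
    (hsum : HasSum (fun D => (θ D : ℝ) * (h D : ℝ)) 0) (P : Submodule k M) :
    Summable fun D => (θ D : ℝ) * (hilbAt M P D : ℝ) := by
  refine Summable.of_norm_bounded hsum.summable.abs fun D => ?_
  rw [Real.norm_eq_abs, abs_mul, abs_mul, Nat.abs_cast, Nat.abs_cast]
  exact mul_le_mul_of_nonneg_left (Nat.cast_le.2 (hilbAt_le hM P D)) (abs_nonneg _)

omit [HopfRep.Comod k A R] [TameAct.IsHopfMod k A R M] in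
theorem theta_top (hM : IsConstellation k A R M h)
    (hsum : HasSum (fun D => (θ D : ℝ) * (h D : ℝ)) 0) : theta M θ ⊤ = 0 := by
  rw [theta]
  simp only [hilbAt_top hM]
  exact hsum.tsum_eq

omit [HopfRep.Comod k A R] [TameAct.IsHopfMod k A R M] in
theorem theta_bot (hM : IsConstellation k A R M h) : theta M θ ⊥ = 0 := by
  rw [theta]
  have : ∀ D, hilbAt M (⊥ : Submodule k M) D = 0 := fun D => (hilbAt_eq_zero_iff hM _ D).2 (bot_inf_eq _)
  simp [this]

omit [HopfRep.Comod k A R] [TameAct.IsHopfMod k A R M] in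
theorem term_genIn_le (hM : IsConstellation k A R M h) (D : SimpSub k A) :
    (θ D : ℝ) * (hilbAt M ((genIn k A R M {D | θ D < 0} N).restrictScalars k) D : ℝ) ≤
      (θ D : ℝ) * (hilbAt M (N.restrictScalars k) D : ℝ) := by
  rcases lt_or_ge (θ D) 0 with hneg | hpos
  · rw [hilbAt, hilbAt, inf_genIn (show D ∈ {D | θ D < 0} from hneg)]
  · exact mul_le_mul_of_nonneg_left
      (Nat.cast_le.2 (hilbAt_mono hM (fun x hx => (genIn_le (N := N) hx : x ∈ N)) D)) (by exact_mod_cast hpos)

omit [HopfRep.Comod k A R] [TameAct.IsHopfMod k A R M] in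
theorem theta_genIn_le (hM : IsConstellation k A R M h)
    (hsum : HasSum (fun D => (θ D : ℝ) * (h D : ℝ)) 0) :
    theta M θ ((genIn k A R M {D | θ D < 0} N).restrictScalars k) ≤ theta M θ (N.restrictScalars k) :=
  Summable.tsum_le_tsum (term_genIn_le hM) (summable_theta hM hsum _) (summable_theta hM hsum _)

omit [HopfRep.Comod k A R] [TameAct.IsHopfMod k A R M] in
theorem eq_top_of_theta_eq (hM : IsConstellation k A R M h)
    (hsum : HasSum (fun D => (θ D : ℝ) * (h D : ℝ)) 0) (hθ : ∀ D, θ D ≠ 0)
    (heq : theta M θ ((genIn k A R M {D | θ D < 0} (⊤ : Submodule R M)).restrictScalars k) = 0) :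
    genIn k A R M {D | θ D < 0} (⊤ : Submodule R M) = ⊤ := by
  set G := genIn k A R M {D | θ D < 0} (⊤ : Submodule R M) with hG
  have hle : ∀ D, (θ D : ℝ) * (hilbAt M (G.restrictScalars k) D : ℝ) ≤ (θ D : ℝ) * (h D : ℝ) := fun D => by
    have := term_genIn_le (θ := θ) (N := (⊤ : Submodule R M)) hM D
    rwa [Submodule.restrictScalars_top, hilbAt_top hM] at this
  have hs := summable_theta (θ := θ) hM hsum (G.restrictScalars k)
  have hz : HasSum (fun D => (θ D : ℝ) * (h D : ℝ) - (θ D : ℝ) * (hilbAt M (G.restrictScalars k) D : ℝ)) 0 := by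
    have h2 := hsum.sub hs.hasSum
    rw [show (∑' D, (θ D : ℝ) * (hilbAt M (G.restrictScalars k) D : ℝ)) = 0 from heq, sub_zero] at h2
    exact h2
  have hz0 := (hasSum_zero_iff_of_nonneg fun D => sub_nonneg.2 (hle D)).1 hz
  rw [eq_top_iff]
  have hall : (⨆ D : SimpSub k A, isoComp M D.1) ≤ G.restrictScalars k := by
    refine iSup_le fun D => ?_
    haveI := (hM.2.2 D).1
    have h3 : hilbAt M (G.restrictScalars k) D = h D := by
      have := congrFun hz0 D
      simp only [Pi.zero_apply] at this
      have hne : (θ D : ℝ) ≠ 0 := by exact_mod_cast hθ D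
      exact_mod_cast (mul_left_cancel₀ hne (sub_eq_zero.1 this)).symm
    have h4 : G.restrictScalars k ⊓ isoComp M D.1 = isoComp M D.1 :=
      Submodule.eq_of_le_of_finrank_eq inf_le_right (h3.trans (hM.2.2 D).2.symm)
    exact inf_eq_right.1 h4
  rw [hM.2.1] at hall
  exact fun m _ => hall Submodule.mem_top

omit [TameAct.IsHopfMod k A R M] [HopfRep.Comod k A R] in
/-- If all negatively weighted parts of a subcomodule vanish then its weight is positive. -/
theorem theta_pos_of_genIn_eq_bot (hM : IsConstellation k A R M h)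
    (hsum : HasSum (fun D => (θ D : ℝ) * (h D : ℝ)) 0) (hθ : ∀ D, h D ≠ 0 → θ D ≠ 0)
    (hN : HopfRep.IsSubcomod (k := k) (A := A) (N.restrictScalars k)) (hN0 : N ≠ ⊥)
    (hbot : genIn k A R M {D | θ D < 0} N = ⊥) : 0 < theta M θ (N.restrictScalars k) := by
  have hneg : ∀ D, θ D < 0 → hilbAt M (N.restrictScalars k) D = 0 := fun D hD => by
    rw [hilbAt_eq_zero_iff hM, ← inf_genIn (S := {D | θ D < 0}) hD, hbot, Submodule.restrictScalars_bot, bot_inf_eq]
  have hnn : ∀ D, 0 ≤ (θ D : ℝ) * (hilbAt M (N.restrictScalars k) D : ℝ) := fun D => by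
    rcases lt_or_ge (θ D) 0 with hD | hD
    · simp [hneg D hD]
    · exact mul_nonneg (by exact_mod_cast hD) (Nat.cast_nonneg _)
  obtain ⟨D, hD⟩ := exists_meet_isoComp hN (by simpa using hN0)
  have hD' : hilbAt M (N.restrictScalars k) D ≠ 0 := fun hh => hD ((hilbAt_eq_zero_iff hM _ D).1 hh)
  have hh : h D ≠ 0 := fun hh => hD' (by have := hilbAt_le hM (N.restrictScalars k) D; omega)
  refine Summable.tsum_pos (summable_theta hM hsum _) hnn D (mul_pos ?_ (by exact_mod_cast Nat.pos_of_ne_zero hD'))
  rcases lt_trichotomy (θ D) 0 with h1 | h1 | h1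
  · exact absurd (hneg D h1) hD'
  · exact absurd h1 (hθ D hh)
  · exact_mod_cast h1

/-- The criterion for stability. -/
theorem isThetaStable_of (hM : IsConstellation k A R M h)
    (hsum : HasSum (fun D => (θ D : ℝ) * (h D : ℝ)) 0) (hθ : ∀ D, h D ≠ 0 → θ D ≠ 0)
    (hs : ∀ N : Submodule R M, HopfRep.IsSubcomod (k := k) (A := A) (N.restrictScalars k) → N ≠ ⊥ → N ≠ ⊤ →
      genIn k A R M {D | θ D < 0} N = N → 0 < theta M θ (N.restrictScalars k)) :
    IsThetaStable k A R M θ := by
  refine ⟨theta_top hM hsum, fun N hN hN0 hNt => ?_⟩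
  by_cases hb : genIn k A R M {D | θ D < 0} N = ⊥
  · exact theta_pos_of_genIn_eq_bot hM hsum hθ hN hN0 hb
  · refine lt_of_lt_of_le (hs _ (isSubcomod_genIn hN) hb ?_ genIn_genIn) (theta_genIn_le hM hsum)
    exact fun ht => hNt (eq_top_iff.2 (ht ▸ genIn_le))

end HopfMod

end Groth.Agent.GHConst
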